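import Cfsg.Agent.StdON.Swap
import Cfsg.Agent.SporChar.ONMain

/-! Standard subgroups `4.L₃(4)`: the centralizer of the central involution (helper84). -/

set_option autoImplicit false
set_option maxRecDepth 100000

namespace Cfsg.Lib.Spor.SON

open Subgroup Bulk PK WF ONT

universe u

variable {G : Type u} [Group G] {θ θ' : UU →* G} {x n g k : G} {j : ℕ}

theorem St.conj_LK (h : St θ) (hn : Commute n (zz θ)) {p : G} (hp : p ∈ LK θ) :
    n * p * n⁻¹ ∈ LK θ := by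
  obtain ⟨l, hl, k, hk, rfl⟩ := hp
  exact ⟨_, h.conj_L hn hl, _, h.conj_K hn hk, conj_mul.symm⟩

theorem inv_mul_comm {y p q : G} (a : p * y = y * p) (b : y * q * y = q) :
    y * (p * q) * y = p * q ∧ y * (q * p) * y = q * p :=
  ⟨by rw [← mul_assoc, ← a, mul_assoc, mul_assoc, ← mul_assoc y, b],
    by rw [mul_assoc, mul_assoc, a, ← mul_assoc, ← mul_assoc, b]⟩

/-- the extension by an involution -/
def St.ext (h : St θ) {d : G} (hd : Commute d (zz θ)) (d2 : d * d = 1) : Subgroup G where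
  carrier := {n | n ∈ LK θ ∨ n * d ∈ LK θ}
  one_mem' := Or.inl (one_mem _)
  mul_mem' := by
    have i := inv_eq_of_mul_eq_one_right d2
    rintro a b (ha | ha) (hb | hb)
    · exact Or.inl (mul_mem ha hb)
    · exact Or.inr (mul_assoc a b d ▸ mul_mem ha hb)
    · refine Or.inr ?_
      have := mul_mem ha (h.conj_LK hd.inv_left hb)
      simpa [mul_assoc] using this
    · refine Or.inl ?_
      have := mul_mem ha (h.conj_LK hd hb)
      rwa [← mul_assoc, ← mul_assoc, mul_assoc a, d2, mul_one, mul_assoc, mul_inv_cancel_right] at this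
  inv_mem' := by
    rintro a (ha | ha)
    · exact Or.inl (inv_mem ha)
    · refine Or.inr ?_
      have := h.conj_LK hd (inv_mem ha)
      rwa [mul_inv_rev, mul_inv_cancel_left, inv_eq_of_mul_eq_one_right d2] at this

variable [Finite G]

theorem St.exists_sylow (h : St θ) :
    ∃ P : Sylow 2 G, normalizer ((P : Subgroup G) : Set G) ≤ centralizer {zz θ} := by
  let T : Sylow 2 (centralizer ({zz θ} : Set G)) := default
  have hN : normalizer (((T : Subgroup (centralizer ({zz θ} : Set G))).map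
      (centralizer ({zz θ} : Set G)).subtype : Subgroup G) : Set G) ≤ centralizer {zz θ} := by
    intro g hg
    rw [mem_centralizer_singleton_iff]
    by_contra hne
    have hzT : DC.zc (zz θ) ∈ (T : Subgroup (centralizer ({zz θ} : Set G))) := by
      have : (zpowers (DC.zc (zz θ))).Normal := ⟨fun n hn g => by
        obtain ⟨k, rfl⟩ := hn
        rw [((DC.commute_zc g).zpow_right k).eq, mul_inv_cancel_right]; exact ⟨k, rfl⟩⟩
      exact IsPGroup.le_sylow_of_normal (Local.isPGroup_zpowers_of_orderOf_eq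
        ((DC.orderOf_zc _).trans (orderOf_eq_prime ((pow_two _).trans (z_four θ)) h.ne))) T
        (mem_zpowers _)
    obtain ⟨t, htT, ht⟩ := (mem_normalizer_iff.1 hg _).1 ⟨_, hzT, rfl⟩
    change (t : G) = g * zz θ * g⁻¹ at ht
    have tz : Commute (g * zz θ * g⁻¹) (zz θ) := ht ▸ mem_centralizer_singleton_iff.1 t.2
    have hp := h.pair tz fun e => hne (mul_inv_eq_iff_eq_mul.1 e)
    obtain ⟨u, u1, hu⟩ : ∃ u, Commute u (zz θ) ∧ u * t * u⁻¹ = t * zz θ := by
      rw [ht, ← cj_z]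
      rcases h.y_act (h.norm hp.comm) with e | e
      · obtain ⟨m, hm, em⟩ := h.inner (hp.p3 e) (z_four _) hp.r.ne hp.z_ne
        refine ⟨m⁻¹ * gU θ 8 * m, comm_z (mul_mem (mul_mem (inv_mem hm) (gU_mem ..)) hm), ?_⟩
        calc _ = m⁻¹ * (gU θ 8 * (m * zz (SON.cj g θ) * m⁻¹)) * (gU θ 8)⁻¹ * m := by group
          _ = m⁻¹ * gU θ 28 * (zz θ * m) := by rw [em, h.bs.sa]; group
          _ = _ := by rw [← (comm_z hm).eq, ← em]; group
      · refine ⟨gU θ 12, comm_z (gU_mem ..), ?_⟩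
        calc _ = gU θ 12 * zz (SON.cj g θ) * gU θ 12 * (zz θ)⁻¹ := by group
          _ = _ := by rw [e, inv_eq_of_mul_eq_one_right (z_four θ)]
    refine DC.not_isConj_mul_central T (t := t) (fun s hs => Subtype.ext ?_) DC.commute_zc
      (Subtype.ext (z_four θ)) (fun e => h.ne (congrArg Subtype.val e))
      (isConj_iff.2 ⟨⟨u, mem_centralizer_singleton_iff.2 u1.eq⟩, Subtype.ext hu⟩)
    obtain ⟨s', -, hs'⟩ := (mem_normalizer_iff.1 (inv_mem hg) s).1 ⟨_, hs, rfl⟩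
    change (s' : G) = _ at hs'
    have := mem_centralizer_singleton_iff.1 s'.2
    change (s : G) * t = t * s
    rw [ht]
    calc (s : G) * (g * zz θ * g⁻¹) = g * (g⁻¹ * s * g⁻¹⁻¹ * zz θ) * g⁻¹ := by group
      _ = _ := by rw [← hs', this, hs']; group
  obtain ⟨P, hP⟩ := Local.exists_sylow_eq_of_normalizer_le T hN
  exact ⟨P, hP ▸ hN⟩

namespace Sp

theorem d_inv (h : Sp θ θ') : gU θ' 12 * gU θ 11 * gU θ' 12 = gU θ 11 := by
  refine (h.r.y_act (h.r.norm (h.e1 ▸ h.l.bs.d1))).resolve_left fun e => h.l.bs.a1 ?_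
  obtain ⟨b1, b2, -⟩ := h.l.bs.k0 h.s1.1
  rwa [← ((h.s4.2 _ (gU_mem θ 11)).1 e).eq, mul_assoc, mul_eq_left, b1] at b2

omit [Finite G] in
theorem d_z (h : Sp θ θ') : Commute (gU θ' 11) (zz θ) := h.e2 ▸ h.r.bs.d1

theorem d_conj (h : Sp θ θ') : IsConj (zz θ) (gU θ' 11) := by
  have n : ¬ Commute (gU θ' 11) (gU θ 12) := fun e => h.l.ne (by
    have := h.symm.d_inv
    rwa [← e.eq, mul_assoc, mul_eq_left] at this)
  obtain ⟨m, -, e⟩ := h.r.inner (gU_mem θ' 11) (sq8 θ').2.2.1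
    (fun e => n (e ▸ Commute.one_left _)) fun e => n (e ▸ h.zy)
  exact h.e2 ▸ (isConj_iff.2 ⟨m, e⟩).symm

theorem d_type (h : Sp θ θ') : ∃ l ∈ θ.range, ∃ x, Act θ x 9 ∧ gU θ' 11 = l * x := by
  obtain ⟨u, hu, x, j, a, e, -⟩ := h.l.exists_act_a (h.l.norm h.d_z) (h.e1 ▸ comm_z (gU_mem θ' 11))
  have i := (mul_y (th_mem θ u)).2.1 (e ▸ h.symm.d_inv)
  obtain rfl | rfl := ((a.y_act h.l.toCov).resolve_left fun b => h.l.ne (by
    rwa [← b.1, mul_assoc, mul_eq_left] at i)).2 h.s1.1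
  swap
  · exact ⟨_, th_mem θ u, x, a, e⟩
  refine absurd ?_ ((a.f7 h.l.toCov h.s1.1 hu).2 (a.sq_case h.l.toCov i (e ▸ (sq8 θ').2.2.1)))
  rw [← e]
  obtain ⟨v, v1, v2, v3, v4⟩ := h.s1'
  have c : Commute (gU θ' 11) (gU θ' 12 * v) := by
    have c : Commute (gU θ' 12) v := by
      have := v2 v v1
      rw [← mul_assoc, mul_left_inj] at this
      exact this.symm
    rcases h.l.sq_one (h.l.mem_zp (mul_mem h.s4.1 v1) v2) (by
      rw [c.symm.mul_mul_mul_comm, v3, z_four]) with b | b <;> rw [b]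
    exacts [Commute.one_right _, h.d_z]
  have : Commute (gU θ' 11) v := by simpa using (comm_y (gU_mem θ' 11)).inv_right.mul_right c
  rcases v4 with rfl | rfl
  exacts [this, Commute.inv_right_iff.1 this]

theorem conj_of_ext (h : Sp θ (cj n θ)) {s : G} (hs : s ∈ h.l.ext h.d_z (sq8 _).2.2.1)
    (s2 : s * s = 1) (s1 : s ≠ 1) : IsConj (zz θ) s := by
  have d2 := (sq8 (cj n θ)).2.2.1
  rcases hs with hs | ⟨l, hl, k, hk, e⟩
  · by_cases e : s = zz θ
    · rw [e]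
    obtain ⟨m, -, em⟩ := h.l.inner (h.two_LK hs (by
      rw [show 4 = 2 * 2 from rfl, pow_mul, pow_two s, s2, one_pow])) s2 s1 e
    exact (isConj_iff.2 ⟨n, (cj_z n θ).symm.trans h.e1⟩).trans (isConj_iff.2 ⟨m, em⟩).symm
  obtain ⟨c, hc, a⟩ := h.symm.s2 hk
  have a' := mul_mem hk (zp_cent hc)
  have l' := mul_mem hl (inv_mem (zp_L hc))
  have e1 : s = l * c⁻¹ * gU (cj n θ) 11 * (k * c) := by
    rw [eq_mul_inv_of_mul_eq e, inv_eq_of_mul_eq_one_right d2, mul_assoc _ _ (k * c),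
      a _ (gU_mem ..), ← hk c (zp_L hc)]
    group
  have cm : Commute (l * c⁻¹ * gU (cj n θ) 11) (k * c) :=
    Commute.mul_left (a' _ l') (a _ (gU_mem ..))
  have e2 := s2
  rw [e1, cm.symm.mul_mul_mul_comm, mul_eq_one_iff_eq_inv'] at e2
  have m : k * c * (k * c) ∈ θ.range := by
    have := inv_mem (mul_mem l' (h.l.conj_L h.d_z l'))
    rw [inv_eq_of_mul_eq_one_right d2] at this
    rw [e2]; simpa only [mul_assoc] using this
  rw [h.odd (h.odd4 (zp_four (h.l.mem_zp m (mul_mem a' a'))) (mul_mem a' a') (mul_mem a a)) a' a,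
    mul_one] at e1
  obtain ⟨l0, h0, x, hx, ex⟩ := h.d_type
  obtain ⟨c1, -, f1⟩ := hx.f9 h.l.toCov h.s1.1 h0 (ex ▸ d2)
  rw [ex, ← mul_assoc] at e1
  obtain ⟨c2, -, f2⟩ := hx.f9 h.l.toCov h.s1.1 (mul_mem l' h0) (e1 ▸ s2)
  exact h.d_conj.trans ((isConj_iff.2 ⟨c1, ex ▸ f1⟩).trans (isConj_iff.2 ⟨c2, e1 ▸ f2⟩).symm)

theorem tri (h : Sp θ θ') {p : G} (hp : Commute p (zz θ)) (e : gU θ 12 * p * gU θ 12 = p) :
    p * gU θ' 11 ∈ LK θ ∨ ∃ l ∈ θ.range, ∃ x, Act θ x 7 ∧ p = l * x := by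
  obtain ⟨u, x, j, a, rfl⟩ := h.l.exists_act (h.l.norm hp)
  have i := (mul_y (th_mem θ u)).2.1 e
  obtain rfl | rfl := ((a.y_act h.l.toCov).resolve_left fun b => h.l.ne (by
    rwa [← b.1, mul_assoc, mul_eq_left] at i)).2 h.s1.1
  · exact Or.inr ⟨_, th_mem θ u, x, a, rfl⟩
  obtain ⟨l0, h0, x', hx, ex⟩ := h.d_type
  exact Or.inl (ex ▸ a.mul_LK hx (th_mem θ u) h0)

theorem four (h : Sp θ θ') {p : G} (hp : p ∉ LK θ) (e : p * gU θ 12 = gU θ 12 * p) :
    ∃ l ∈ θ.range, ∃ x, Act θ x 4 ∧ p = l * x := by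
  obtain ⟨u, x, j, a, rfl⟩ := h.l.exists_act (h.l.norm (Commute.mul_right e e))
  have i := (mul_y (th_mem θ u)).1.1 e
  obtain rfl | rfl := ((a.y_act h.l.toCov).resolve_right fun b => h.l.ne (by
    have := b.1
    rwa [← i, mul_assoc, mul_eq_left] at this)).2 h.s1.1
  exacts [absurd ⟨_, th_mem θ u, x, a.zero, rfl⟩ hp, ⟨_, th_mem θ u, x, a, rfl⟩]

theorem isConj [IsSimpleGroup G] (h : Sp θ (cj n θ)) (hz : zz θ ∉ center G) {s : G}
    (hs : orderOf s = 2) : IsConj (zz θ) s := by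
  obtain ⟨P, hP⟩ := h.l.exists_sylow
  have hPz : ∀ x ∈ (P : Subgroup G), Commute x (zz θ) := fun x hx =>
    mem_centralizer_singleton_iff.1 (hP (le_normalizer hx))
  obtain ⟨u, h1, h2, h3⟩ := Local.thompson_idx' (Local.index_ne_two_of_isSimpleGroup hz) P
    (M := h.l.ext h.d_z (sq8 _).2.2.1) (fun a ha b hb a1 b1 => by
      have a2 := hPz a ha
      have b2 := hPz b hb
      have s7 : ∀ {p}, Commute p (zz θ) → p ∉ h.l.ext h.d_z (sq8 _).2.2.1 →
          gU θ 12 * p * gU θ 12 = p → ∃ l ∈ θ.range, ∃ x, Act θ x 7 ∧ p = l * x :=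
        fun p1 p2 p3 => (h.tri p1 p3).resolve_left fun e => p2 (Or.inr e)
      by_contra hn
      rcases h.l.y_act (h.l.norm a2) with e | e <;> rcases h.l.y_act (h.l.norm b2) with e' | e'
      · obtain ⟨l, hl, x, hx, rfl⟩ := h.four (fun e => a1 (Or.inl e)) e
        obtain ⟨l', hl', x', hx', rfl⟩ := h.four (fun e => b1 (Or.inl e)) e'
        exact hn (Or.inl (hx.mul_LK hx' hl hl'))
      · obtain ⟨l, hl, x, hx, e1⟩ := s7 (a2.mul_left b2) hn (inv_mul_comm e e').1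
        obtain ⟨l', hl', x', hx', e2⟩ := s7 b2 b1 e'
        have := hx.mul_LK hx' hl hl'
        rw [← e1, ← e2, mul_assoc, mul_mem_cancel_right (h.l.sq_mem (h.l.norm b2))] at this
        exact a1 (Or.inl this)
      · obtain ⟨l, hl, x, hx, e1⟩ := s7 (a2.mul_left b2) hn (inv_mul_comm e' e).2
        obtain ⟨l', hl', x', hx', e2⟩ := s7 a2 a1 e
        have := hx'.mul_LK hx hl' hl
        rw [← e1, ← e2, ← mul_assoc, mul_mem_cancel_left (h.l.sq_mem (h.l.norm a2))] at this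
        exact b1 (Or.inl this)
      · obtain ⟨l, hl, x, hx, rfl⟩ := s7 a2 a1 e
        obtain ⟨l', hl', x', hx', rfl⟩ := s7 b2 b1 e'
        exact hn (Or.inl (hx.mul_LK hx' hl hl'))) hs
  obtain ⟨c, rfl⟩ := isConj_iff.1 h1
  refine (h.conj_of_ext h3 (by rw [conj_mul, ← pow_two, ← hs, pow_orderOf_eq_one]; group)
    fun e => ?_).trans h1.symm
  rw [conj_eq_one_iff.1 e, orderOf_one] at hs; omega

theorem mem_ext [IsSimpleGroup G] (h : Sp θ (cj n θ)) (hz : zz θ ∉ center G) {p : G}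
    (hp : Commute p (zz θ)) : p ∈ LK θ ∨ p * gU (cj n θ) 11 ∈ LK θ := by
  have t : ∀ {p}, Commute p (zz θ) → gU θ 12 * p * gU θ 12 = p → p * gU (cj n θ) 11 ∈ LK θ :=
    fun p1 p2 => (h.tri p1 p2).resolve_right (by
      rintro ⟨-, -, x, hx, -⟩
      obtain ⟨ι, i1, i2⟩ := h.exists_inv hx (hx.cj h.l (z_of_y h.l.toCov hx.nm) n)
      refine h.not_isConj i2 (h.isConj hz (orderOf_eq_prime (by rwa [pow_two]) fun e => h.l.ne ?_))
      simpa [e] using i2 _ (gU_mem θ 12) (comm_y h.s4.1).symm)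
  rcases h.l.y_act (h.l.norm hp) with e | e
  · have := t (hp.mul_left h.d_z) (inv_mul_comm e h.symm.d_inv).1
    rw [mul_assoc, (sq8 _).2.2.1, mul_one] at this
    exact Or.inl this
  · exact Or.inr (t hp e)

theorem odd_in (h : Sp θ (cj n θ)) (hk : k ∈ KK θ) (ho : Odd (orderOf k))
    (e : Commute (g * zz θ * g⁻¹) (gU θ 12)) : k ∈ KK (cj g θ) := by
  by_cases a : g * zz θ * g⁻¹ = zz θ
  · simpa using memK_cj.2 (show g⁻¹ * k * g ∈ _ by
      simpa using h.l.conj_K (Commute.inv_left (mul_inv_eq_iff_eq_mul.1 a)) hk)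
  have p := h.l.pair (e.mul_right e) a
  obtain ⟨m, hm, em⟩ := h.l.inner (p.p3 (cj_z g θ ▸ e)) (z_four _) p.r.ne p.z_ne
  have c : Commute (g⁻¹ * m⁻¹ * n) (zz θ) := by
    replace em : m * (g * zz θ * g⁻¹) * m⁻¹ = n * zz θ * n⁻¹ := by
      rw [← cj_z, ← cj_z n, h.e1]; exact em
    calc _ = g⁻¹ * m⁻¹ * (n * zz θ * n⁻¹) * n := by group
      _ = _ := by rw [← em]; group
  have := h.l.conj_K c (memK_cj.1 (h.odd_K hk ho))
  rw [memK_cj]
  convert this using 1
  calc g⁻¹ * k * g = g⁻¹ * m⁻¹ * (m * k) * g := by group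
    _ = _ := by rw [hk m hm]; group

omit [Finite G] in
theorem cj_sp (h : Sp θ (cj n θ)) (f : G) : Sp (cj f θ) (cj (f * n * f⁻¹) (cj f θ)) := by
  have e : f * n * zz θ * (f * n)⁻¹ = f * gU θ 28 * f⁻¹ := by rw [← h.e1, cj_z]; group
  rw [cj_cj, inv_mul_cancel_right]
  refine ⟨h.l.pair2 (by
    rw [e]; exact (comm_z (gU_mem θ 28)).map (MulAut.conj f)) (by
    rw [e]; simpa using h.l.bs.az), (cj_z _ _).trans e, ?_⟩
  rw [cj_z, h.e2, cj_gU, cj_gU]; group

theorem odd_all (h : Sp θ (cj n θ)) (hk : k ∈ KK θ) (ho : Odd (orderOf k))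
    (e : Commute (g * zz θ * g⁻¹) (zz θ)) : k ∈ KK (cj g θ) := by
  by_cases a : Commute (g * zz θ * g⁻¹) (gU θ 12)
  · exact h.odd_in hk ho a
  have p := h.l.pair e fun b => a (by rw [b]; exact comm_y (mul_mem (gU_mem ..) (gU_mem ..)))
  obtain ⟨s, hs, s2, s1, sz, c1, c2, c3⟩ := p.p2 (cj_z g θ ▸ a)
  obtain ⟨m, hm, em⟩ := h.l.inner hs s2 s1 sz
  have es : m⁻¹ * n * zz θ * (m⁻¹ * n)⁻¹ = s := by
    rw [← h.e1, cj_z] at em
    calc _ = m⁻¹ * (n * zz θ * n⁻¹) * m := by group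
      _ = _ := by rw [← em]; group
  have k1 := h.odd_in hk ho (es ▸ comm_y hs)
  have sy : Commute s (gU (cj g θ) 12) := by
    have := c3.mul_left (comm_y (mul_mem (gU_mem (cj g θ) 12) (gU_mem _ 12)))
    rwa [mul_assoc, z_four, mul_one] at this
  have q := h.l.pair2 (f := g) (g := m⁻¹ * n) (by rw [es, ← cj_z]; exact c1) fun b => a (by
    rw [← b, es]; exact comm_y hs)
  have := (h.cj_sp (m⁻¹ * n)).odd_in (g := g * (m⁻¹ * n)⁻¹) k1 ho (by
    have := q.p1 (by rwa [cj_z, es])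
    rw [cj_z] at this ⊢
    convert this using 1; group)
  rwa [cj_cj, inv_mul_cancel_right] at this

theorem K_eq [IsSimpleGroup G] (h : Sp θ (cj n θ)) (hz : zz θ ∉ center G) (hk : k ∈ KK θ) :
    k ∈ θ.range := by
  have oz : orderOf (zz θ) = 2 := orderOf_eq_prime ((pow_two _).trans (z_four θ)) h.l.ne
  have hO := Local.oddCore_eq_bot_of_isSimpleGroup oz
  set O := KK θ ⊓ KK (cj n θ)
  have ho : ∀ k ∈ O, Odd (Nat.card O) ∧ Odd (orderOf k) := fun k hk =>
    DC.odd_orderOf_of_mem hk fun y hy e => h.odd e hy.1 hy.2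
  have hn : ∀ x : G, Commute (x * zz θ * x⁻¹) (zz θ) → x ∈ normalizer (O : Set G) := fun x hx => by
    have hc : ∀ {y k : G}, Commute (y⁻¹ * zz θ * y⁻¹⁻¹) (zz θ) → k ∈ O → y * k * y⁻¹ ∈ O :=
      fun {y k} hy hk => by
        have := memK_cj.1 (h.odd_all hk.1 (ho k hk).2 hy)
        rw [inv_inv] at this
        exact ⟨this, h.odd_K this (by rw [Local.orderOf_conj]; exact (ho k hk).2)⟩
    refine mem_normalizer_iff.2 fun k => ⟨hc ?_, fun hk => ?_⟩
    · have := hx.map (MulAut.conj x⁻¹)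
      simpa [mul_assoc] using this.symm
    · have := hc (y := x⁻¹) (by simpa using hx) hk
      simpa [mul_assoc] using this
  have hN : centralizer {zz θ} ≤ normalizer (O : Set G) := fun x hx => hn x (by
    rw [mem_centralizer_singleton_iff.1 hx, mul_inv_cancel_right])
  have hO1 : O = ⊥ := by
    by_cases hM : normalizer (O : Set G) = ⊤
    · rcases (normalizer_eq_top_iff.1 hM).eq_bot_or_eq_top with e | e
      · exact e
      · exact absurd (show zz (cj n θ) ∈ O from e ▸ mem_top _).1 h.z_not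
    obtain ⟨P, hP⟩ := h.l.exists_sylow
    have hse := Local.SE.of_centralizer_normalizer hM P (hP.trans hN) fun x hx ho c hc => by
      obtain ⟨y, rfl⟩ := isConj_iff.1 (h.isConj hz ho)
      have hy := hn y (mem_centralizer_singleton_iff.1 (hP (le_normalizer hx)))
      have := mul_mem (mul_mem hy (hN (show y⁻¹ * c * y ∈ _ from
        mem_centralizer_singleton_iff.2 (comm_cj.1 (mem_centralizer_singleton_iff.1 hc)))))
        (inv_mem hy)
      simpa [mul_assoc] using this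
    rw [eq_bot_iff, ← hO]
    exact (Bender.core_of_gate _).le_oddCore hse le_normalizer (ho 1 (one_mem _)).1
      fun a ha n hn => (mem_normalizer_iff.1 ha n).1 hn
  obtain ⟨c, hc, a⟩ := h.symm.s2 hk
  have : k * c = 1 := mem_bot.1 (hO1 ▸ (⟨mul_mem hk (zp_cent hc), a⟩ : k * c ∈ O))
  exact eq_inv_of_mul_eq_one_left this ▸ inv_mem (zp_L hc)

end Sp

theorem St.exists_sp' [IsSimpleGroup G] (h : St θ) (hz : zz θ ∉ center G) :
    ∃ n, Sp θ (SON.cj n θ) := by
  have oz : orderOf (zz θ) = 2 := orderOf_eq_prime ((pow_two _).trans (z_four θ)) h.ne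
  obtain ⟨g, g1, g2⟩ : ∃ g : G, Commute (zz θ) (g * zz θ * g⁻¹) ∧ g * zz θ * g⁻¹ ≠ zz θ := by
    by_contra! e
    exact hz (Block.Princ.zstar_center ⟨oz, e⟩ (Local.oddCore_eq_bot_of_isSimpleGroup oz))
  have p := h.pair g1.symm g2
  by_cases a : Commute (zz (SON.cj g θ)) (gU θ 12)
  · exact h.exists_sp p a
  obtain ⟨s, -, -, s1, -, c1, c2, c3⟩ := p.p2 a
  obtain ⟨f, hf⟩ := isConj_iff.1 c2
  have e : g⁻¹ * f * g * zz θ * (g⁻¹ * f * g)⁻¹ = g⁻¹ * (s * zz (SON.cj g θ)) * g := by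
    rw [← hf, cj_z]; group
  have c : Commute (g⁻¹ * f * g * zz θ * (g⁻¹ * f * g)⁻¹) (gU θ 12) := e ▸ comm_cj.1 c3
  refine h.exists_sp (h.pair (c.mul_right c) fun b => s1 ?_) (cj_z _ θ ▸ c)
  rw [e, cj_z] at b
  calc s = g * (g⁻¹ * (s * (g * zz θ * g⁻¹)) * g) * (zz θ)⁻¹ * g⁻¹ := by group
    _ = 1 := by rw [b]; group

/-- A simple group with a standard subgroup `4.L₃(4)` is the O'Nan group. -/
theorem main [IsSimpleGroup G] (hG : ¬ IsMulCommutative G) {L : Subgroup G}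
    (hL : IsStandardSubgroup L) (hZc : IsCyclic (center L)) (hZ4 : Nat.card (center L) = 4)
    (e : L ⧸ center L ≃* LL) : Nonempty (G ≃* Spor.ON) := by
  have hp := hL.1.1
  obtain ⟨θ, hc, rfl⟩ := exists_cov L hZc hZ4 hp.1 e
  have ht : ∀ {k g : G}, k * k = 1 → k ∈ KK θ → g * k * g⁻¹ ∈ KK θ →
      k = 1 ∨ g ∈ normalizer (θ.range : Set G) := fun {k g} hk h1 h2 => by
    by_contra! e
    have := (Local.odd_card_iff_forall_not_involution _).1 (hL.2.1.2 g (hL.2.2.2 ▸ e.2)) _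
      ⟨h2, Local.conj_mem_map_conj h1⟩
    exact this (by rw [Local.orderOf_conj]; exact orderOf_eq_prime (by rwa [pow_two]) e.1)
  have h : St θ := ⟨hc, fun {n} e => (ht (z_four θ) (z_mem θ) (by
    rw [e.eq, mul_inv_cancel_right]; exact z_mem θ)).resolve_left hc.ne,
    fun a b c => (ht a b c).imp_right (z_of_y hc)⟩
  have hz : zz θ ∉ center G := fun e => by
    rcases (inferInstance : (center G).Normal).eq_bot_or_eq_top with e' | e'
    · exact hc.ne (mem_bot.1 (e' ▸ e))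
    · exact hG ⟨⟨fun a b => (mem_center_iff.1 (e' ▸ mem_top b) a)⟩⟩
  obtain ⟨n, s⟩ := h.exists_sp' hz
  have lk : ∀ p ∈ LK θ, p ∈ θ.range := by
    rintro _ ⟨l, hl, k, hk, rfl⟩
    exact mul_mem hl (s.K_eq hz hk)
  let M := θ.range.subgroupOf (centralizer {zz θ})
  let f : M ≃* θ.range := subgroupOfEquivOfLe (range_le θ)
  have : M.Normal := ⟨fun l hl g => h.conj_L (mem_centralizer_singleton_iff.1 g.2) hl⟩
  have fc : (center M).map f.toMonoidHom = center θ.range := by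
    ext c
    obtain ⟨c, rfl⟩ := f.surjective c
    rw [map_mem_center_iff]
    exact mem_map_iff_mem f.injective
  obtain ⟨e1⟩ := MP.M21_equiv_PSL34
  obtain ⟨e2⟩ := equivL
  refine isoON (orderOf_eq_prime ((pow_two _).trans (z_four θ)) hc.ne) M ?_ (fun p hp => ?_)
    ((MulEquiv.isCyclic (centerCongr f)).2 hZc) ((Nat.card_congr (centerCongr f).toEquiv).trans hZ4)
    (Group.IsPerfect.ofSurjective (f := f.symm.toMonoidHom) f.symm.surjective).1 _ Class.card_GF4 (((QuotientGroup.congr _ _ f fc).trans e).trans (e2.symm.trans e1))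
  · refine index_eq_two_iff.2 ⟨⟨_, mem_centralizer_singleton_iff.2 s.d_z⟩, fun b => ?_⟩
    have nd : gU (SON.cj n θ) 11 ∉ θ.range := fun a => hc.ne (by
      have := s.symm.d_inv
      rwa [← (comm_y a).eq, mul_assoc, mul_eq_left] at this)
    rcases s.mem_ext hz (mem_centralizer_singleton_iff.1 b.2) with a | a
    · exact Or.inr ⟨lk _ a, fun c => nd ((mul_mem_cancel_left (lk _ a)).1 c)⟩
    · exact Or.inl ⟨lk _ a, fun c => nd ((mul_mem_cancel_left (show b.1 ∈ θ.range from c)).1 (lk _ a))⟩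
  · exact s.K_eq hz fun l hl => congrArg Subtype.val (hp ⟨l, range_le θ hl⟩ hl)

end Cfsg.Lib.Spor.SON
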