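import Cfsg.Agent.SporChar.ONStep2

/-! Standard subgroups `4.L₃(4)`: finite checks in the models of the Sylow subgroups (helper84). -/

set_option autoImplicit false
set_option maxRecDepth 100000
set_option maxHeartbeats 1000000

namespace Cfsg.Lib.Spor.SON

open Subgroup Bulk PK WF ONT

/-- the model with the outer letter replaced by the identity -/
@[reducible] noncomputable def noX (M : PM) : PM :=
  ⟨M.w, M.n, (M.cs.set 1 (M.cs.getD 0 0)).set 2 (M.cs.getD 0 0),
    [M.SW.getD 1 ([], []), M.SW.getD 1 ([], [])]⟩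

/-- the value of the word lies in the centre -/
def inZ (L : List ℕ) : Fm := .or (.eq L []) (.or (.eq L [12]) (.or (.eq L [5]) (.eq L [3])))

/-- the outer letter is trivial and the variable lies in one of four cosets of the centre -/
def fC : Fm := .and (.eq [1] []) (.or (inZ [20]) (.or (inZ [4,20])
  (.and (.eq [13] []) (.or (inZ [8,9,11,20]) (inZ [11,9,8,20])))))

/-- commutation modulo the involution `a` -/
def cA (d : List ℕ) : Fm := .or (.eq (d ++ [21]) (21 :: d)) (.eq (d ++ [21]) (21 :: (d ++ [4])))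

/-- the commutator avoids the central involution -/
def tA (d : List ℕ) : Fm := .all 1 22 (.imp (.eq (d ++ [21]) (21 :: (d ++ [22])))
  (.and (.not (.eq [22] [5])) (.and (.not (.eq [22] [5,4])) (.and (.not (.eq [22,22] [5]))
    (.not (.eq [22,22] [5,4]))))))

/-- facts on the Sylow subgroup of the covering group -/
def fB : Fm := .and (.eq [4,8] [8,5,4]) (.and (.not (.eq [4] [5])) (.and (.not (.eq [4] []))
  (.and (.eq [4,11] [11,4]) (.and (.eq [4,9,10] [9,10,4]) (.and (.eq [4,8,9] [8,9,4])
  (.imp (.eq [13] []) (.and (.eq [8,9,11,8,9,11] [4]) (.and (.eq [8,9,11,11,8,9,11] [11])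
    (.and (.eq [8,9,11,9,10] [9,10,8,9,11]) (.and (.eq [8,9,11,8,8,9,11,8] [8,8,9,11,8,8,9,11])
    (.all 1 20 (.imp (.eq [8,9,11,20] [20,8,9,11]) (.and (.eq [20,20,20,20] [])
      (.all 1 21 (.imp (.eq [8,9,11,21] [21,8,9,11]) (.eq [20,21] [21,20]))))))))))))))))

/-- facts on the automorphisms centralizing `a` -/
def fX : Fm := .all 1 20 (.imp (.eq [4,20] [20,4]) (.bind 21 [1,20]
  (.and (.imp (cA [12]) (.imp (cA [11]) (.imp (cA [9,10]) (.imp (cA [8,9]) fC))))
    (.imp (.eq [13] []) (.imp (.eq [12,21] [21,12])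
      (.and (.imp (.eq [8,9,11,21] [21,8,9,11]) (.imp (tA [11]) (.imp (tA [9,10]) fC)))
        (.imp (.eq [9,10,9,10,21] [21,9,10,9,10]) (.eq [1] []))))))))

/-- the square of the outer element is central -/
def sQ : Fm := .or (.eq [20,1,20] [1]) (.eq [20,1,20] [1,5])

/-- outer involutions that invert the centre -/
def fP : Fm := .or (.eq [12,1] [1,12]) (.all 1 20 (.imp sQ (.ex 1 22 (.and (.eq [22,22] [])
  (.and (.not (.eq [22] [])) (.and (.not (.eq [22] [5]))
    (.or (.eq [8,9,11,1,20,22] [1,20,8,9,11]) (.eq [8,11,9,1,20,22] [1,20,8,11,9]))))))))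

/-- the graph automorphism -/
def f7 : Fm := .all 1 20 (.and (.imp (.eq [8,9,11,20] [20,8,9,11]) (.eq [20,1,20] [1]))
  (.imp sQ (.not (.eq [8,9,11,1,20] [1,20,8,9,11]))))

/-- the unitary automorphism -/
def f9 : Fm := .all 1 20 (.imp sQ (.ex 1 22 (.eq [22,1] [1,20,22])))

/-- the checks on the models without outer letter -/
noncomputable def chk0 (i : ℕ) : Bool :=
  (noX (MS i)).ok && (noX (MS i)).subsOK && (noX (MS i)).satB 14 iS (rS (cK i)) &&
    eqsB (noX (MS i)) [([4], [8,10,8,10,12,13]), ([5], [12,12]), ([6], []), ([7], []), ([1], [])] &&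
    (noX (MS i)).dec (.and fZ (.and fB fX))

theorem chk0_0 : chk0 0 = true := by decide +kernel

theorem chk0_6 : chk0 6 = true := by decide +kernel

theorem chkX0 : (MS 0).dec (.and fX fP) = true := by decide +kernel

theorem chkX2 : (MS 2).dec (.and fX fP) = true := by decide +kernel

theorem chkX4 : (MS 4).dec (.and fX fP) = true := by decide +kernel

theorem chkX6 : (MS 6).dec (.and fX fP) = true := by decide +kernel

theorem chkX8 : (MS 8).dec (.and fX fP) = true := by decide +kernel

theorem chkX10 : (MS 10).dec (.and fX fP) = true := by decide +kernel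

theorem chk7 : (MS 2).dec f7 = true := by decide +kernel

theorem chk9 : (MS 4).dec f9 = true := by decide +kernel

end Cfsg.Lib.Spor.SON
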