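import Cfsg.Agent.StdON.Pair
import Cfsg.Agent.DC.StdMain

/-! Standard subgroups `4.L₃(4)`: a pair of conjugates that are interchanged (helper84). -/

set_option autoImplicit false
set_option maxRecDepth 100000

namespace Cfsg.Lib.Spor.SON

open Subgroup Bulk PK WF ONT

variable {G : Type*} [Group G] {θ θ' : UU →* G} {x n g k : G} {j : ℕ}

/-- the central involution of each cover is the involution `a` of the other -/
structure Sp (θ θ' : UU →* G) : Prop extends Pair θ θ' where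
  e1 : zz θ' = gU θ 28
  e2 : zz θ = gU θ' 28

theorem comm_y {l : G} (hl : l ∈ θ.range) : Commute l (gU θ 12) := y_mem θ l hl

theorem zp_L {c : G} (hc : c ∈ zpowers (gU θ 12)) : c ∈ θ.range := zpowers_le.2 (gU_mem θ 12) hc

theorem Act.cj (h : Act θ x j) (hs : St θ) (hx : Commute x (zz θ)) (g : G) :
    Act (cj g θ) (g * x * g⁻¹) j :=
  ⟨h.hj, (hs.cj g).norm (by rw [cj_z, comm_cj]; simpa [mul_assoc] using hx),
    by rw [cj_gU]; nth_rewrite 2 [← h.a1]; group, by rw [cj_gU, cj_gU, ← h.a7]; group⟩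

theorem z_of_y (hc : Cov θ) (hn : n ∈ normalizer (θ.range : Set G)) : Commute n (zz θ) := by
  rcases hc.y_act hn with e | e
  · exact Commute.mul_right e e
  · calc n * zz θ = zz θ * zz θ * n * zz θ := by rw [z_four, one_mul]
      _ = zz θ * (gU θ 12 * (gU θ 12 * n * gU θ 12) * gU θ 12) := by simp only [mul_assoc]
      _ = _ := by rw [e, e]

variable [Finite G]

theorem St.exists_sp (h : St θ) (p : Pair θ (SON.cj g θ)) (e : Commute (zz (SON.cj g θ)) (gU θ 12)) :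
    ∃ n, Sp θ (SON.cj n θ) := by
  obtain ⟨m, hm, em⟩ := h.inner (p.p3 e) (z_four _) p.r.ne p.z_ne
  have q := p.cj' hm
  rw [← cj_z] at em
  rw [cj_cj] at q em
  obtain ⟨m', hm', em'⟩ := q.r.inner (q.symm.p3 (q.p1 (em ▸ comm_y (gU_mem θ 28)))) (z_four _)
    h.ne q.symm.z_ne
  have e1 : m'⁻¹ * (m * g) * zz θ * (m'⁻¹ * (m * g))⁻¹ = gU θ 28 := by
    calc _ = m'⁻¹ * zz (SON.cj (m * g) θ) * m' := by rw [cj_z]; group
      _ = _ := by rw [(comm_z (inv_mem hm')).eq, inv_mul_cancel_right, em]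
  refine ⟨m'⁻¹ * (m * g), h.pair (e1 ▸ comm_z (gU_mem θ 28)) (e1 ▸ h.bs.az),
    (cj_z _ _).trans e1, ?_⟩
  rw [cj_gU] at em' ⊢
  calc _ = m'⁻¹ * (m' * zz θ * m'⁻¹) * m' := by group
    _ = _ := by rw [em']; group

namespace Sp

omit [Finite G] in
theorem symm (h : Sp θ θ') : Sp θ' θ := ⟨h.toPair.symm, h.e2, h.e1⟩

omit [Finite G] in
theorem zy (h : Sp θ θ') : Commute (zz θ') (gU θ 12) := h.e1 ▸ comm_y (gU_mem θ 28)

omit [Finite G] in
theorem ya (h : Sp θ θ') : gU θ' 12 * gU θ 28 = gU θ 28 * gU θ' 12 :=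
  h.e1 ▸ comm_z (gU_mem θ' 12)

theorem s1 (h : Sp θ θ') :
    gU θ 13 = 1 ∧ (gU θ' 12 * vv θ ∈ KK θ ∨ gU θ' 12 * (vv θ)⁻¹ ∈ KK θ) :=
  h.of_cc h.ya (h.l.v3 (h.l.norm h.symm.zy.symm) h.ya fun _ hd da =>
    (h.core h.zy (one_mem _) (h.e1.trans (mul_one _).symm) hd da).imp_right fun a => h.e1 ▸ a.1)

theorem vsq (h : Sp θ θ') : vv θ * vv θ = zz θ' := (h.l.bs.k0 h.s1.1).1.trans h.e1.symm

theorem s1' (h : Sp θ θ') : ∃ w ∈ θ.range, gU θ' 12 * w ∈ KK θ ∧ w * w = zz θ' ∧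
    (w = vv θ ∨ w = (vv θ)⁻¹) := by
  rcases h.s1.2 with a | a
  exacts [⟨_, vv_mem θ, a, h.vsq, Or.inl rfl⟩, ⟨_, inv_mem (vv_mem θ), a, by
    rw [← mul_inv_rev, h.vsq, inv_eq_of_mul_eq_one_right (z_four θ')], Or.inr rfl⟩]

theorem s2 (h : Sp θ θ') {w : G} (hw : w ∈ KK θ') : ∃ c ∈ zpowers (gU θ' 12), w * c ∈ KK θ := by
  have wz : Commute w (zz θ) := h.e2 ▸ (hw _ (gU_mem θ' 28)).symm
  have yz : Commute (gU θ' 12) (zz θ) := h.symm.zy.symm
  have cm : ∀ d, Commute d (zz θ') → w * d * w⁻¹ * d⁻¹ ∈ KK θ' := fun d hd => by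
    have := mul_mem hw (h.r.conj_K hd (inv_mem hw))
    simpa only [mul_assoc] using this
  obtain ⟨v, v1, v2, v3, v4⟩ := h.s1'
  have wv : Commute w v := by
    have c1 : w * v * w⁻¹ * v⁻¹ ∈ KK θ := by
      have := h.l.conj_K yz.inv_left (mul_mem (h.l.conj_K wz v2) (inv_mem v2))
      rw [← mul_assoc w, ← hw _ (gU_mem θ' 12)] at this
      convert this using 1; group
    have := h.odd4 (zp_four (h.l.mem_zp (mul_mem (h.l.conj_L wz v1) (inv_mem v1)) c1)) c1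
      (cm v (v3 ▸ (Commute.refl v).mul_right (Commute.refl v)))
    rwa [mul_inv_eq_one, mul_inv_eq_iff_eq_mul] at this
  have y1 := mem_zpowers (gU θ' 12)
  have v2' : v * gU θ' 12 ∈ KK θ := by
    simpa [mul_assoc] using h.l.conj_K yz.inv_left v2
  have f1 : w * v ∈ KK θ → ∃ c ∈ zpowers (gU θ' 12), w * c ∈ KK θ := fun a =>
    ⟨_, inv_mem y1, by simpa [mul_assoc] using mul_mem a (inv_mem v2)⟩
  have f2 : w * v⁻¹ ∈ KK θ → ∃ c ∈ zpowers (gU θ' 12), w * c ∈ KK θ := fun a =>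
    ⟨_, y1, by simpa [mul_assoc] using mul_mem a v2'⟩
  rcases h.l.kk h.s1.1 (h.l.norm wz) (h.e1 ▸ comm_zK hw) ((h.l.y_act (h.l.norm wz)).resolve_right
    fun a => h.symm.z_not (by
      have := inv_mem (cm _ h.zy.symm)
      rw [eq_inv_mul_of_mul_eq ((mul_assoc _ _ _).symm.trans a)] at this
      simpa [mul_assoc] using this)) (by
      rcases v4 with rfl | rfl
      exacts [wv, Commute.inv_right_iff.1 wv]) (W := KK θ') (h.e1 ▸ z_mem θ') h.symm.z_not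
    fun d _ da => cm d (h.e1 ▸ da) with a | a | ⟨-, a | a⟩
  · exact ⟨1, one_mem _, by rwa [mul_one]⟩
  · exact ⟨_, mul_mem y1 y1, by rwa [← h.e1] at a⟩
  · rcases v4 with rfl | rfl
    exacts [f1 a, f2 (by rwa [inv_inv])]
  · rcases v4 with rfl | rfl
    exacts [f2 a, f1 a]

theorem two_K (h : Sp θ θ') (hk : k ∈ KK θ) (e : k ^ 4 = 1) : k ∈ zpowers (gU θ 12) := by
  obtain ⟨c, hc, a⟩ := h.symm.s2 hk
  have cm : Commute k c := by
    obtain ⟨i, rfl⟩ := hc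
    exact (Commute.symm (hk _ (gU_mem θ 12))).zpow_right i
  have := h.odd4 (by rw [cm.mul_pow, e, zp_four hc, one_mul]) (mul_mem hk (zp_cent hc)) a
  exact eq_inv_of_mul_eq_one_left this ▸ inv_mem hc

theorem odd_K (h : Sp θ θ') (hk : k ∈ KK θ) (e : Odd (orderOf k)) : k ∈ KK θ' := by
  obtain ⟨c, hc, a⟩ := h.symm.s2 hk
  have cm : Commute k c := by
    obtain ⟨i, rfl⟩ := hc
    exact (Commute.symm (hk _ (gU_mem θ 12))).zpow_right i
  have b := pow_mem a (orderOf k)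
  rw [cm.mul_pow, pow_orderOf_eq_one, one_mul] at b
  have b1 := h.odd4 (zp_four (pow_mem hc _)) (zp_cent (pow_mem hc _)) b
  have : orderOf c = 1 := Nat.eq_one_of_dvd_coprimes (Nat.Coprime.pow_left 2
    (Nat.coprime_two_left.2 e)) (orderOf_dvd_of_pow_eq_one (zp_four hc))
    (orderOf_dvd_of_pow_eq_one b1)
  rwa [orderOf_eq_one_iff.1 this, mul_one] at a

theorem s4 (h : Sp θ θ') : gU θ' 12 ∈ θ.range ∧
    ∀ l ∈ θ.range, Commute l (gU θ' 12) ↔ Commute l (vv θ) := by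
  obtain ⟨v, v1, v2, v3, v4⟩ := h.s1'
  have c : Commute (gU θ' 12) v := by
    have := v2 v v1
    rw [← mul_assoc, mul_left_inj] at this
    exact this.symm
  refine ⟨(mul_mem_cancel_right v1).1 (zp_L (h.two_K v2 ?_)), fun l hl => ?_⟩
  · rw [c.mul_pow, zp_four (mem_zpowers _), one_mul, show 4 = 2 * 2 from rfl, pow_mul, pow_two,
      pow_two, v3, z_four]
  have b : Commute l (gU θ' 12 * v) := v2 l hl
  have : Commute l (gU θ' 12) ↔ Commute l v :=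
    ⟨fun a => by simpa using a.inv_right.mul_right b, fun a => by simpa using b.mul_right a.inv_right⟩
  rcases v4 with rfl | rfl
  exacts [this, this.trans Commute.inv_right_iff]

theorem two_LK (h : Sp θ θ') (hn : n ∈ LK θ) (e : n ^ 4 = 1) : n ∈ θ.range := by
  obtain ⟨l, hl, k, hk, rfl⟩ := hn
  obtain ⟨c, hc, a⟩ := h.symm.s2 hk
  have a' := mul_mem hk (zp_cent hc)
  have l' := mul_mem hl (inv_mem (zp_L hc))
  have e1 : l * k = l * c⁻¹ * (k * c) := by rw [← hk c (zp_L hc)]; group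
  rw [e1, Commute.mul_pow (a' _ l'), mul_eq_one_iff_eq_inv'] at e
  have := h.odd4 (h.odd4 (zp_four (h.l.mem_zp (e ▸ inv_mem (pow_mem l' 4)) (pow_mem a' 4)))
    (pow_mem a' 4) (pow_mem a 4)) a' a
  rwa [e1, this, mul_one]

theorem v_ab (h : Sp θ θ') {l l' : G} (hl : l ∈ θ.range) (c : Commute l (gU θ' 12))
    (hl' : l' ∈ θ.range) (c' : Commute l' (gU θ' 12)) : l ^ 4 = 1 ∧ Commute l' l := by
  obtain ⟨u, hu, rfl⟩ := h.l.cent_a hl (h.e1 ▸ c.mul_right c)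
  obtain ⟨u', hu', rfl⟩ := h.l.cent_a hl' (h.e1 ▸ c'.mul_right c')
  have := (h.l.bs.k0 h.s1.1).2.2.2.2 u hu ((h.s4.2 _ hl).1 c)
  exact ⟨this.1, this.2 u' hu' ((h.s4.2 _ hl').1 c')⟩

theorem v3_comm (h : Sp θ θ') : Commute (gU θ 10 * gU θ 9) (gU θ' 12) :=
  (h.s4.2 _ (mul_mem (gU_mem ..) (gU_mem ..))).2 (h.l.bs.k0 h.s1.1).2.2.1

theorem mem_L (h : Sp θ θ') {p : G} (hp : p ∈ θ'.range) (c : Commute p (gU θ 12)) :
    p ∈ θ.range := by
  have m := mul_mem (gU_mem θ 10) (gU_mem θ 9)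
  have b := h.symm.two_LK (h.r.sq_mem (h.r.norm (h.v3_comm.mul_right h.v3_comm))) (by
    rw [(Commute.refl _).mul_pow, (h.v_ab m h.v3_comm m h.v3_comm).1, one_mul])
  have := h.symm.v_ab hp c b (comm_y (mul_mem m m))
  exact h.two_LK (h.l.v4 h.s1.1 (h.l.norm (c.mul_right c)) (h.e1 ▸ comm_z hp) c this.2.symm) this.1

theorem cent_V (h : Sp θ θ') {c : G} (hc : ∀ l ∈ θ.range, Commute l (gU θ' 12) → Commute l c) :
    ∃ l ∈ θ.range, ∃ k ∈ KK θ, Commute l (gU θ' 12) ∧ c = l * k := by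
  have y1 := (hc _ (gU_mem θ 12) (comm_y h.s4.1).symm).symm
  have y2 := (hc _ h.s4.1 (Commute.refl _)).symm
  have y3 := (hc _ (mul_mem (gU_mem ..) (gU_mem ..)) h.v3_comm).symm
  obtain ⟨l, hl, k, hk, rfl⟩ := h.l.v4 h.s1.1 (h.l.norm (y1.mul_right y1))
    (h.e1 ▸ y2.mul_right y2) y1 (y3.mul_right y3)
  exact ⟨l, hl, k, hk, by simpa using y2.mul_left (Commute.symm (hk _ h.s4.1)).inv_left, rfl⟩

theorem inv7 (h : Sp θ θ') (hx : Act θ x 7) {l : G} (hl : l ∈ θ.range)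
    (c : Commute l (gU θ' 12)) : l * x * l = x := by
  obtain ⟨u, hu, rfl⟩ := h.l.cent_a hl (h.e1 ▸ c.mul_right c)
  exact (hx.f7 h.l.toCov h.s1.1 hu).1 ((h.s4.2 _ hl).1 c)

theorem exists_inv (h : Sp θ θ') {x' : G} (hx : Act θ x 7) (hx' : Act θ' x' 7) :
    ∃ ι : G, ι * ι = 1 ∧ ∀ l ∈ θ.range, Commute l (gU θ' 12) → l * ι * l = ι := by
  have i2 : ∀ l ∈ θ.range, Commute l (gU θ' 12) → l * x' * l = x' := fun l hl c =>
    h.symm.inv7 hx' (h.symm.mem_L hl c) (comm_y hl)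
  obtain ⟨l, hl, k, hk, c, e⟩ := h.cent_V (c := x' * x⁻¹) fun l hl c => by
    calc l * (x' * x⁻¹) = l * x' * l * (l * x * l)⁻¹ * l := by group
      _ = _ := by rw [i2 l hl c, h.inv7 hx hl c]
  have m : x' * x' ∈ KK θ := by
    have := mul_mem (mul_mem hk (h.l.conj_K (z_of_y h.l.toCov hx.nm) hk)) hx.sq
    rw [eq_mul_of_mul_inv_eq e, hk l hl]
    convert this using 1
    calc _ = k * (l * x * l) * (l⁻¹ * k * l) * x := by group
      _ = _ := by rw [h.inv7 hx hl c, hk _ (inv_mem hl)]; group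
  obtain ⟨r, hr⟩ := (DC.odd_orderOf_of_mem (K := KK θ ⊓ KK θ') ⟨m, hx'.sq⟩
    fun y hy e => h.odd e hy.1 hy.2).2
  refine ⟨(x' * x') ^ r * x', ?_, fun l hl c => ?_⟩
  · rw [← pow_orderOf_eq_one (x' * x'), hr, ← pow_two, ← pow_two]; group
  · rw [← mul_assoc, pow_mem m r l hl, mul_assoc, mul_assoc, ← mul_assoc l, i2 l hl c]

theorem not_isConj (h : Sp θ (cj n θ)) {ι : G}
    (hι : ∀ l ∈ θ.range, Commute l (gU (cj n θ) 12) → l * ι * l = ι) : ¬ IsConj (zz θ) ι := by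
  intro hc
  obtain ⟨g, rfl⟩ := isConj_iff.1 hc
  have nc : ∀ l ∈ θ.range, Commute l (gU (cj n θ) 12) → Commute (g * zz θ * g⁻¹) l → l * l = 1 :=
    fun l hl c e => by
      have := hι l hl c
      rwa [← e.eq, mul_assoc _ l, mul_eq_left] at this
  have ci : ∀ l ∈ θ.range, Commute l (gU (cj n θ) 12) → l * l = 1 → Commute l (g * zz θ * g⁻¹) :=
    fun l hl c e => by
      have := hι l hl c
      rw [← mul_left_inj l, mul_assoc _ l l, e, mul_one] at this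
      exact this
  have y1 := comm_y h.s4.1
  have z1 := ci _ (mul_mem (gU_mem ..) (gU_mem ..)) (y1.symm.mul_left y1.symm) (z_four θ)
  have n1 : ¬ Commute (g * zz θ * g⁻¹) (gU θ 12) := fun e => h.l.ne (nc _ (gU_mem ..) y1.symm e)
  have p := h.l.pair z1.symm fun e => n1 (by
    rw [e]; exact comm_y (mul_mem (gU_mem ..) (gU_mem ..)))
  have i1 := (p.r.y_act (p.r.norm p.comm.symm)).resolve_left fun a => n1 (cj_z g θ ▸ p.symm.p1 a)
  have a1 := ci _ (gU_mem θ 28) h.ya.symm (sq8 θ).2.2.2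
  have key : ∀ f, gU (cj f θ) 12 ∈ θ.range → Commute (gU (cj f θ) 12) (gU (cj n θ) 12) →
      Commute (zz (cj f θ)) (g * zz θ * g⁻¹) → ¬ Commute (zz (cj f θ)) (gU (cj g θ) 12) :=
    fun f f1 f2 f3 f4 => (h.l.cj f).ne (nc _ f1 f2 (cj_z g θ ▸ (h.l.pair2 (cj_z f θ ▸ f3)
      fun e => n1 (by rw [← e, ← cj_z]; exact comm_y (mul_mem f1 f1))).p1 f4))
  rcases p.r.y_act (p.r.norm (cj_z g θ ▸ a1)) with a | a
  · exact key n h.s4.1 (Commute.refl _) (h.e1 ▸ a1) (h.e1 ▸ a)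
  have b := h.l.bs
  have g8 := inv_eq_of_mul_eq_one_right (sq8 θ).1
  have e8 : zz (cj (gU θ 8 * n) θ) = gU θ 28 * zz θ := by
    rw [← cj_cj, cj_z, h.e1, b.sa, mul_inv_cancel_right]
  have m8 : gU (cj (gU θ 8 * n) θ) 12 ∈ θ.range := by
    rw [← cj_cj, cj_gU]; exact h.l.conj_L (comm_z (gU_mem θ 8)) h.s4.1
  refine key (gU θ 8 * n) m8 ?_ (e8 ▸ a1.mul_left z1) (e8 ▸ comm_of_inv a i1)
  rw [h.s4.2 _ m8, ← cj_cj, cj_gU, Commute.symm_iff, comm_cj, g8,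
    h.s4.2 _ (mul_mem (mul_mem (gU_mem ..) (vv_mem θ)) (gU_mem ..))]
  exact (b.k0 h.s1.1).2.2.2.1

end Sp

end Cfsg.Lib.Spor.SON
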